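import Mathlib
set_option autoImplicit false
open Finset

namespace Groth.Agent.AxKatz92

/-- Rotated digit sum. -/
def rot (p e : ℕ) : List ℕ → ℕ → ℕ
  | [], _ => 0
  | d :: L, t => d * p ^ (t % e) + rot p e L (t + 1)

theorem rot_modEq (p e : ℕ) (hp : 1 ≤ p) (L : List ℕ) (t : ℕ) :
    rot p e L t ≡ Nat.ofDigits p L * p ^ t [MOD p ^ e - 1] := by
  induction L generalizing t with
  | nil => simp [rot, Nat.ofDigits, Nat.ModEq.refl]
  | cons d L ih =>
    have h1 : p ^ (t % e) ≡ p ^ t [MOD p ^ e - 1] := by
      have h0 : p ^ e ≡ 1 [MOD p ^ e - 1] :=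
        ((Nat.modEq_iff_dvd' (Nat.one_le_pow _ _ hp)).2 dvd_rfl).symm
      conv => arg 3; rw [← Nat.mod_add_div t e, pow_add, pow_mul]
      have := (h0.pow (t / e)).mul_left (p ^ (t % e))
      rw [one_pow, mul_one] at this
      exact this.symm
    have h2 : Nat.ofDigits p (d :: L) * p ^ t = d * p ^ t + Nat.ofDigits p L * p ^ (t + 1) := by
      rw [Nat.ofDigits_cons]; push_cast; ring
    rw [rot, h2]
    exact (h1.mul_left d).add (ih (t + 1))

theorem rot_periodic (p e : ℕ) (L : List ℕ) (t : ℕ) : rot p e L (t + e) = rot p e L t := by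
  induction L generalizing t with
  | nil => rfl
  | cons d L ih => rw [rot, rot, Nat.add_mod_right, show t + e + 1 = t + 1 + e by ring, ih]

theorem sum_rot (p e : ℕ) (L : List ℕ) :
    ∑ t ∈ range e, rot p e L t = L.sum * ∑ t ∈ range e, p ^ t := by
  induction L with
  | nil => simp [rot]
  | cons d L ih =>
    have hshift : ∑ t ∈ range e, rot p e L (t + 1) = ∑ t ∈ range e, rot p e L t := by
      have h1 := sum_range_succ' (rot p e L) e
      rw [sum_range_succ, show rot p e L e = rot p e L 0 by simpa using rot_periodic p e L 0] at h1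
      omega
    simp only [rot, sum_add_distrib, List.sum_cons, add_mul]
    rw [hshift, ih, ← mul_sum]
    congr 2
    exact sum_congr rfl fun t ht => by rw [Nat.mod_eq_of_lt (mem_range.1 ht)]

theorem rot_pos (p e : ℕ) (hp : 1 ≤ p) (n : ℕ) (t : ℕ) (hn : n ≠ 0) :
    0 < rot p e (p.digits n) t := by
  have : ∀ L : List ℕ, ∀ t, 0 < L.sum → 0 < rot p e L t := by
    intro L
    induction L with
    | nil => simp
    | cons d L ih =>
      intro t h
      rw [rot]
      rcases Nat.eq_zero_or_pos d with rfl | hd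
      · simpa using ih (t + 1) (by simpa using h)
      · exact Nat.add_pos_left (Nat.mul_pos hd (pow_pos hp _)) _
  refine this _ t ?_
  exact List.sum_pos_iff_exists_pos_nat.mpr
    ⟨_, List.getLast_mem (Nat.digits_ne_nil_iff_ne_zero.mpr hn),
      Nat.pos_of_ne_zero (Nat.getLast_digit_ne_zero p hn)⟩

theorem digits_sum_bound (p : ℕ) (hp : 2 ≤ p) (e M : ℕ) :
    (p.digits ((p ^ e - 1) * p ^ M)).sum ≤ e * (p - 1) := by
  have hM : (p.digits ((p ^ e - 1) * p ^ M)).sum = (p.digits (p ^ e - 1)).sum := by
    rcases Nat.eq_zero_or_pos (p ^ e - 1) with h | h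
    · rw [h, zero_mul]
    · rw [mul_comm, Nat.digits_base_pow_mul hp h]
      simp
  rw [hM]
  have h2 : (p.digits (p ^ e - 1)).length ≤ e :=
    (Nat.digits_length_le_iff hp _).2 (Nat.sub_lt (pow_pos (by omega) _) one_pos)
  calc (p.digits (p ^ e - 1)).sum ≤ (p.digits (p ^ e - 1)).length * (p - 1) := by
        have := List.sum_le_card_nsmul (p.digits (p ^ e - 1)) (p - 1)
          (fun x hx => by have := Nat.digits_lt_base hp hx; omega)
        simpa using this
    _ ≤ e * (p - 1) := Nat.mul_le_mul_right _ h2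

/-- The combinatorial heart of Ax's theorem. -/
theorem valuation_bound {ι σ : Type} [Fintype σ] [DecidableEq σ] (p : ℕ) [hp : Fact p.Prime]
    (e d j M : ℕ) (hd : 0 < d) (he : 0 < e) (hN : j * d < Fintype.card σ) (s : Finset ι) (a : ι → ℕ)
    (exps : ι → σ → ℕ) (hdeg : ∀ i ∈ s, ∑ v, exps i v = d)
    (hsum : ∑ i ∈ s, a i = (p ^ e - 1) * p ^ M)
    (hE : ∀ v, p ^ e - 1 ∣ ∑ i ∈ s, a i * exps i v) :
    e * j ≤ padicValNat p (Nat.multinomial s a) +
      e * (univ.filter fun v => ∑ i ∈ s, a i * exps i v = 0).card := by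
  classical
  set z := (univ.filter fun v : σ => ∑ i ∈ s, a i * exps i v = 0).card with hz
  set Q := p ^ e - 1 with hQ
  have hp2 := hp.out.two_le
  have hQpos : 0 < Q := by
    have : p ^ 1 ≤ p ^ e := Nat.pow_le_pow_right (by omega) he
    simp only [pow_one] at this
    omega
  let B : ℕ → ℕ := fun t => ∑ i ∈ s, rot p e (p.digits (a i)) t
  have hzle : z ≤ Fintype.card σ := card_le_univ _
  have hrot : ∀ i t, rot p e (p.digits (a i)) t ≡ a i * p ^ t [MOD Q] := fun i t => by
    have := rot_modEq p e (by omega) (p.digits (a i)) t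
    rwa [Nat.ofDigits_digits] at this
  have hbeta : ∀ t, ∃ β, B t = Q * β ∧ Fintype.card σ - z ≤ d * β := by
    intro t
    obtain ⟨β, hβ⟩ : Q ∣ B t := by
      have : B t ≡ (Q * p ^ M) * p ^ t [MOD Q] := by
        rw [← hsum, sum_mul]
        exact Nat.ModEq.sum fun i _ => hrot i t
      exact (Nat.ModEq.dvd_iff this dvd_rfl).2 ⟨p ^ M * p ^ t, by ring⟩
    refine ⟨β, hβ, Nat.le_of_mul_le_mul_left ?_ hQpos⟩
    calc Q * (Fintype.card σ - z)
        = ∑ _v ∈ univ.filter (fun v : σ => ¬ ∑ i ∈ s, a i * exps i v = 0), Q := by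
          rw [sum_const, smul_eq_mul, filter_not, card_sdiff_of_subset (filter_subset _ _), card_univ, mul_comm]
      _ ≤ ∑ v ∈ univ.filter (fun v : σ => ¬ ∑ i ∈ s, a i * exps i v = 0),
            ∑ i ∈ s, rot p e (p.digits (a i)) t * exps i v := by
          refine sum_le_sum fun v hv => ?_
          simp only [mem_filter, mem_univ, true_and] at hv
          refine Nat.le_of_dvd ?_ ?_
          · obtain ⟨i, hi, hne⟩ := exists_ne_zero_of_sum_ne_zero hv
            rw [mul_ne_zero_iff] at hne
            exact lt_of_lt_of_le (Nat.mul_pos (rot_pos p e (by omega) _ t hne.1)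
              (Nat.pos_of_ne_zero hne.2)) (single_le_sum (f := fun i => rot p e (p.digits (a i)) t * exps i v) (fun i _ => Nat.zero_le _) hi)
          · have h : ∑ i ∈ s, rot p e (p.digits (a i)) t * exps i v ≡
                (∑ i ∈ s, a i * exps i v) * p ^ t [MOD Q] := by
              rw [sum_mul]
              refine Nat.ModEq.sum fun i _ => ?_
              rw [mul_right_comm]
              exact (hrot i t).mul_right _
            exact (Nat.ModEq.dvd_iff h dvd_rfl).2 ((hE v).mul_right _)
      _ ≤ ∑ v, ∑ i ∈ s, rot p e (p.digits (a i)) t * exps i v :=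
          sum_le_sum_of_subset (filter_subset _ _)
      _ = Q * (d * β) := by
          rw [sum_comm, mul_left_comm, ← hβ, mul_sum]
          exact sum_congr rfl fun i hi => by rw [← mul_sum, hdeg i hi, mul_comm]
  choose β hβ hβd using hbeta
  obtain ⟨m, hm⟩ : ∃ m, ∀ t, β m ≤ β t := by
    have hne : (Set.range β).Nonempty := ⟨_, ⟨0, rfl⟩⟩
    obtain ⟨m, hm⟩ := Nat.sInf_mem hne
    exact ⟨m, fun t => hm ▸ Nat.sInf_le ⟨t, rfl⟩⟩
  set G := ∑ t ∈ range e, p ^ t with hG
  have hGQ : G * (p - 1) = Q := geom_sum_mul_of_one_le (by omega) e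
  set S := ∑ i ∈ s, (p.digits (a i)).sum with hS
  have hSG : ∑ t ∈ range e, B t = S * G := by
    simp only [B, hS, sum_mul]
    rw [sum_comm]
    exact sum_congr rfl fun i _ => sum_rot p e _
  have hSbound : e * β m * (p - 1) ≤ S := by
    have h : e * (Q * β m) ≤ S * G := by
      rw [← hSG]
      simpa using card_nsmul_le_sum (range e) B (Q * β m)
        (fun t _ => (hβ t).symm ▸ Nat.mul_le_mul_left _ (hm t))
    have hGpos : 0 < G := by
      rcases Nat.eq_zero_or_pos G with h0 | h0
      · rw [h0, zero_mul] at hGQ; omega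
      · exact h0
    refine Nat.le_of_mul_le_mul_right ?_ hGpos
    calc e * β m * (p - 1) * G = e * ((G * (p - 1)) * β m) := by ring
      _ ≤ S * G := by rw [hGQ]; exact h
  have hval : (p - 1) * padicValNat p (Nat.multinomial s a) + ∑ i ∈ s, a i =
      S + ((∑ i ∈ s, a i) - (p.digits (∑ i ∈ s, a i)).sum) := by
    rw [← sub_one_mul_padicValNat_factorial, ← Nat.multinomial_spec, padicValNat.mul
      (prod_ne_zero_iff.2 fun i _ => Nat.factorial_ne_zero _) (Nat.multinomial_pos s a).ne']
    have hprod : ∀ t : Finset ι, padicValNat p (∏ i ∈ t, (a i).factorial) =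
        ∑ i ∈ t, padicValNat p (a i).factorial := by
      intro t
      induction t using Finset.cons_induction with
      | empty => simp
      | cons i t hi ih =>
        rw [prod_cons, sum_cons, padicValNat.mul (Nat.factorial_ne_zero _)
          (prod_ne_zero_iff.2 fun i _ => Nat.factorial_ne_zero _), ih]
    rw [hprod, mul_add, mul_sum]
    have : S + ∑ i ∈ s, (p - 1) * padicValNat p (a i).factorial = ∑ i ∈ s, a i := by
      rw [hS, ← sum_add_distrib]
      refine sum_congr rfl fun i _ => ?_
      rw [sub_one_mul_padicValNat_factorial]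
      exact Nat.add_sub_cancel' (Nat.digit_sum_le p (a i))
    omega
  have hdig : (p.digits (∑ i ∈ s, a i)).sum ≤ e * (p - 1) := by
    rw [hsum]; exact digits_sum_bound p hp2 e M
  have hle := Nat.digit_sum_le p (∑ i ∈ s, a i)
  have h1 : (p - 1) * (e * β m) ≤ (p - 1) * (padicValNat p (Nat.multinomial s a) + e) := by
    have : e * β m * (p - 1) ≤ (p - 1) * padicValNat p (Nat.multinomial s a) + e * (p - 1) := by
      omega
    calc (p - 1) * (e * β m) = e * β m * (p - 1) := by ring
      _ ≤ _ := this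
      _ = _ := by ring
  have h2 := Nat.le_of_mul_le_mul_left h1 (by omega)
  have h3 : j + 1 ≤ β m + z := by
    by_contra hlt
    push Not at hlt
    have h4 := hβd m
    have h5 : (β m + z) * d ≤ j * d := Nat.mul_le_mul_right d (Nat.lt_succ_iff.1 hlt)
    have h6 : z ≤ z * d := Nat.le_mul_of_pos_right z hd
    have h7 : (β m + z) * d = d * β m + z * d := by ring
    omega
  have h8 : e * (j + 1) ≤ e * (β m + z) := Nat.mul_le_mul_left e h3
  rw [mul_add, mul_add, mul_one] at h8
  omega

end Groth.Agent.AxKatz92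

namespace Groth.Agent.AxKatz92
open WittVector

variable {p : ℕ} [hp : Fact p.Prime] {k : Type*} [Field k] [CharP k p] [PerfectRing k p]

theorem dvd_of_constantCoeff_eq_zero (x : WittVector p k) (h : x.coeff 0 = 0) :
    (p : WittVector p k) ∣ x := by
  rcases eq_or_ne x 0 with rfl | hx
  · exact dvd_zero _
  obtain ⟨m, b, hb, rfl⟩ := WittVector.exists_eq_pow_p_mul x hx
  rcases Nat.eq_zero_or_pos m with rfl | hm
  · simp [hb] at h
  · exact Dvd.dvd.mul_right (dvd_pow_self _ hm.ne') _

theorem natCast_dvd_cancel (n a : ℕ) (h : (p : WittVector p k) ^ n ∣ (a : WittVector p k)) :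
    p ^ n ∣ a := by
  rcases eq_or_ne a 0 with rfl | ha
  · exact dvd_zero _
  refine (pow_dvd_pow p ?_).trans (pow_padicValNat_dvd (p := p) (n := a))
  set v := padicValNat p a
  obtain ⟨c, hc⟩ : p ^ v ∣ a := pow_padicValNat_dvd
  have hpc : ¬ p ∣ c := fun ⟨c', hc'⟩ => pow_succ_padicValNat_not_dvd (p := p) ha
    ⟨c', by rw [pow_succ, mul_assoc, ← hc']; exact hc⟩
  by_contra hlt
  push Not at hlt
  have hu : ¬ (p : WittVector p k) ∣ (c : WittVector p k) := fun hd => hpc (by
    have := map_dvd (WittVector.constantCoeff : WittVector p k →+* k) hd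
    rw [map_natCast, map_natCast, CharP.cast_eq_zero k p, zero_dvd_iff] at this
    exact (CharP.cast_eq_zero_iff k p c).1 this)
  have hp0 : (p : WittVector p k) ≠ 0 := (WittVector.irreducible p).ne_zero
  obtain ⟨n', rfl⟩ := Nat.exists_eq_add_of_lt hlt
  rw [hc, Nat.cast_mul, Nat.cast_pow, pow_succ, pow_add, mul_assoc,
    mul_dvd_mul_iff_left (pow_ne_zero _ hp0)] at h
  exact hu (dvd_trans (dvd_mul_left _ _) h)

variable [Fintype k]

theorem sum_teich_pow (q : ℕ) (hq : Fintype.card k = q) (E : ℕ) (hE : ¬ (q - 1) ∣ E) :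
    ∑ a : k, (WittVector.teichmuller p a) ^ E = 0 := by
  classical
  have : ∃ b : kˣ, b ^ E ≠ 1 := by
    by_contra h
    push Not at h
    obtain ⟨g, hg⟩ := IsCyclic.exists_generator (α := kˣ)
    have ho : orderOf g = q - 1 := by
      rw [orderOf_eq_card_of_forall_mem_zpowers hg, Nat.card_units, Nat.card_eq_fintype_card, hq]
    exact hE (ho ▸ orderOf_dvd_of_pow_eq_one (h g))
  obtain ⟨b, hb⟩ := this
  have hS : WittVector.teichmuller p ((b : k) ^ E) * ∑ a : k, (WittVector.teichmuller p a) ^ E
      = ∑ a : k, (WittVector.teichmuller p a) ^ E := by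
    rw [Finset.mul_sum]
    refine Fintype.sum_equiv (Units.mulLeft b) _ _ fun a => ?_
    rw [Units.mulLeft_apply, map_pow, ← mul_pow, ← map_mul]
  have hne : WittVector.teichmuller p ((b : k) ^ E) - 1 ≠ 0 := by
    intro h
    apply hb
    have := congrArg (fun x : WittVector p k => x.coeff 0) (sub_eq_zero.1 h)
    simp only [WittVector.teichmuller_coeff_zero, WittVector.one_coeff_zero] at this
    exact Units.ext (by simpa using this)
  refine (mul_eq_zero.1 ?_).resolve_left hne
  rw [sub_mul, one_mul, hS, sub_self]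

theorem indicator [DecidableEq k] (e j : ℕ) (he : 0 < e) (hcard : Fintype.card k = p ^ e) (G : WittVector p k) :
    (p : WittVector p k) ^ (e * j) ∣
      G ^ ((p ^ e - 1) * p ^ (e * j)) - (if G.coeff 0 = 0 then 0 else 1) := by
  classical
  split
  · rename_i h
    rw [sub_zero]
    refine (pow_dvd_pow _ ?_).trans (pow_dvd_pow_of_dvd (dvd_of_constantCoeff_eq_zero G h) _)
    have h1 : 0 < p ^ e - 1 := by
      have : p ^ 1 ≤ p ^ e := Nat.pow_le_pow_right hp.out.pos he
      simp only [pow_one] at this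
      have := hp.out.two_le
      omega
    exact (Nat.lt_pow_self hp.out.one_lt).le.trans (Nat.le_mul_of_pos_left _ h1)
  · rename_i h
    have hu : (G ^ (p ^ e - 1)).coeff 0 = 1 := by
      show WittVector.constantCoeff (G ^ (p ^ e - 1)) = 1
      rw [map_pow, ← hcard]
      exact FiniteField.pow_card_sub_one_eq_one _ h
    have hd : (p : WittVector p k) ∣ G ^ (p ^ e - 1) - 1 := by
      refine dvd_of_constantCoeff_eq_zero _ ?_
      show WittVector.constantCoeff (G ^ (p ^ e - 1) - 1) = 0
      rw [map_sub, map_one]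
      exact sub_eq_zero.2 hu
    have := dvd_sub_pow_of_dvd_sub hd (e * j)
    rw [one_pow, ← pow_mul] at this
    exact (pow_dvd_pow _ (Nat.le_succ _)).trans this

theorem ax_katz (N d j : ℕ) (hd : 0 < d) [DecidableEq k] (F : MvPolynomial (Fin N) k)
    (hF : F.IsHomogeneous d) (hj : j * d < N) (e : ℕ) (he : 0 < e) (hcard : Fintype.card k = p ^ e) :
    Fintype.card k ^ j ∣ Fintype.card {x : Fin N → k // MvPolynomial.eval x F = 0} := by
  classical
  let W := WittVector p k
  let T := WittVector.teichmuller (p := p) (R := k)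
  set K := (p ^ e - 1) * p ^ (e * j) with hK
  let G : (Fin N → k) → W := fun x =>
    ∑ t ∈ F.support, T (F.coeff t) * ∏ v, T (x v) ^ (t v)
  have hG : ∀ x, (G x).coeff 0 = MvPolynomial.eval x F := by
    intro x
    show WittVector.constantCoeff (G x) = _
    rw [MvPolynomial.eval_eq', map_sum]
    refine Finset.sum_congr rfl fun t _ => ?_
    have hT : ∀ c : k, WittVector.constantCoeff (T c) = c := fun c =>
      WittVector.teichmuller_coeff_zero (p := p) c
    simp only [map_mul, map_prod, map_pow, hT]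
  have hsum : (p : W) ^ (e * j) ∣ ∑ x : Fin N → k, G x ^ K := by
    simp only [G, Finset.sum_pow_eq_sum_piAntidiag]
    rw [Finset.sum_comm]
    refine Finset.dvd_sum fun a ha => ?_
    rw [Finset.mem_piAntidiag] at ha
    have : ∀ x : Fin N → k, ∏ t ∈ F.support, (T (F.coeff t) * ∏ v, T (x v) ^ (t v)) ^ a t =
        (∏ t ∈ F.support, T (F.coeff t) ^ a t) * ∏ v, T (x v) ^ (∑ t ∈ F.support, a t * t v) := by
      intro x
      simp only [mul_pow, Finset.prod_mul_distrib, ← Finset.prod_pow, ← pow_mul]
      rw [Finset.prod_comm]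
      congr 1
      refine Finset.prod_congr rfl fun v _ => ?_
      rw [Finset.prod_pow_eq_pow_sum]
      simp only [mul_comm]
    simp only [this, ← mul_assoc, ← Finset.mul_sum]
    rw [show (∑ x : Fin N → k, ∏ v, T (x v) ^ (∑ t ∈ F.support, a t * t v)) =
        ∏ v : Fin N, ∑ c : k, T c ^ (∑ t ∈ F.support, a t * t v) from
      (Fintype.prod_sum fun v c => T c ^ (∑ t ∈ F.support, a t * t v)).symm]
    by_cases hall : ∀ v : Fin N, p ^ e - 1 ∣ ∑ t ∈ F.support, a t * t v
    · have hval := valuation_bound p e d j (e * j) hd he (by simpa using hj) F.support a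
        (fun t v => t v) (fun t ht => by
          have h := hF (MvPolynomial.mem_support_iff.1 ht)
          simp only [Finsupp.weight_apply, Finsupp.sum_fintype, Pi.one_apply, smul_eq_mul,
            mul_one, implies_true] at h
          exact h) ha.1 hall
      refine (pow_dvd_pow _ hval).trans ?_
      rw [pow_add]
      refine mul_dvd_mul (Dvd.dvd.mul_right ?_ _) ?_
      · have := map_dvd (Nat.castRingHom (WittVector p k)) (pow_padicValNat_dvd (p := p)
          (n := Nat.multinomial F.support a))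
        simpa using this
      · rw [pow_mul, ← Nat.cast_pow, ← hcard, ← Finset.prod_const]
        calc _ = ∏ v ∈ univ.filter (fun v : Fin N => ∑ t ∈ F.support, a t * t v = 0),
              ∑ c : k, T c ^ (∑ t ∈ F.support, a t * t v) := by
              refine Finset.prod_congr rfl fun v hv => ?_
              simp only [mem_filter, mem_univ, true_and] at hv
              rw [hv]
              simp
          _ ∣ _ := Finset.prod_dvd_prod_of_subset _ _ _ (Finset.filter_subset _ _)
    · push Not at hall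
      obtain ⟨v, hv⟩ := hall
      rw [Finset.prod_eq_zero (Finset.mem_univ v) (sum_teich_pow (p ^ e) hcard _ hv), mul_zero]
      exact dvd_zero _
  have hcount : (p : W) ^ (e * j) ∣ ∑ x : Fin N → k, (1 - G x ^ K) -
      ((Fintype.card {x : Fin N → k // MvPolynomial.eval x F = 0} : ℕ) : W) := by
    rw [Fintype.card_subtype, Finset.card_filter, Nat.cast_sum, ← Finset.sum_sub_distrib]
    refine Finset.dvd_sum fun x _ => ?_
    have h := indicator e j he hcard (G x)
    rw [hG] at h
    rw [← dvd_neg]
    convert h using 1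
    split <;> simp [K, W]
  rw [hcard, ← pow_mul]
  refine natCast_dvd_cancel (k := k) _ _ ?_
  have h1 : (p : W) ^ (e * j) ∣ ∑ x : Fin N → k, (1 - G x ^ K) := by
    rw [Finset.sum_sub_distrib]
    refine dvd_sub ?_ hsum
    simp only [Finset.sum_const, nsmul_one, Finset.card_univ, Fintype.card_fun, Fintype.card_fin,
      hcard, Nat.cast_pow, ← pow_mul]
    refine pow_dvd_pow _ (Nat.mul_le_mul_left e ?_)
    exact ((Nat.le_mul_of_pos_right j hd).trans hj.le)
  have := dvd_sub h1 hcount
  rwa [sub_sub_cancel] at this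

end Groth.Agent.AxKatz92
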